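import Mathlib
import Cfsg.Agent.Lib.Involution.Dihedral
import Cfsg.Agent.Lib.OddOrder.CNTheorem

/-!
# Simple groups with abelian centralisers: the normaliser of an involution centraliser

`A` is the centraliser of an involution, `N` its normaliser and `Q = N ∩ N^u` for an involution
`u` outside `N`. Counting the involutions in the cosets of `N` shows that `u` inverts `Q` and
that `Q` has as many elements as `A` has involutions.
-/

set_option autoImplicit false
set_option linter.unusedSectionVars false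

namespace CfsgLib.Recognition.CAGroup

open CfsgLib.Involution.Dihedral

variable {G : Type*} [Group G]

/-- Commuting is transitive on the non-identity elements. -/
def CA (G : Type*) [Group G] : Prop :=
  ∀ a b c : G, a ≠ 1 → b ≠ 1 → c ≠ 1 → Commute a b → Commute b c → Commute a c

/-- The centraliser of an element. -/
abbrev cz (x : G) : Subgroup G := Subgroup.centralizer ({x} : Set G)

theorem mem_cz {x y : G} : y ∈ cz x ↔ Commute y x :=
  Subgroup.mem_centralizer_singleton_iff.trans ⟨fun h => h, fun h => h⟩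

variable (hc : CA G)

include hc in
theorem trans' {a b c : G} (hb : b ≠ 1) (h1 : Commute a b) (h2 : Commute b c) : Commute a c := by
  by_cases ha : a = 1
  · subst ha; exact Commute.one_left _
  by_cases hc' : c = 1
  · subst hc'; exact Commute.one_right _
  exact hc a b c ha hb hc' h1 h2

include hc in
theorem cz_eq {x y : G} (hx : x ≠ 1) (hy : y ≠ 1) (h : Commute y x) : cz y = cz x :=
  le_antisymm (fun z hz => mem_cz.2 (trans' hc hy (mem_cz.1 hz) h))
    fun z hz => mem_cz.2 (trans' hc hx (mem_cz.1 hz) h.symm)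

include hc in
theorem cz_comm {x : G} (hx : x ≠ 1) {y z : G} (hy : y ∈ cz x) (hz : z ∈ cz x) : Commute y z :=
  trans' hc hx (mem_cz.1 hy) (mem_cz.1 hz).symm

variable [Finite G]

theorem exists_involution [IsSimpleGroup G] (hG : ¬ IsMulCommutative G) (hc : CA G) : ∃ t : G, orderOf t = 2 := by
  haveI : Fact (Nat.Prime 2) := ⟨Nat.prime_two⟩
  by_cases h : 2 ∣ Nat.card G
  · exact exists_prime_orderOf_dvd_card' 2 h
  exfalso
  have hodd : Odd (Nat.card G) := Nat.not_even_iff_odd.1 fun e => h e.two_dvd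
  haveI := CfsgLib.OddOrder.CNTheorem.isSolvable (G := G) hodd fun x hx => by
    letI : CommGroup (cz x) :=
      { (inferInstance : Group (cz x)) with
        mul_comm := fun a b => Subtype.ext (cz_comm hc hx a.2 b.2) }
    infer_instance
  exact hG ⟨⟨IsSimpleGroup.comm_iff_isSolvable.2 inferInstance⟩⟩

section

variable [IsSimpleGroup G] (hG : ¬ IsMulCommutative G)

include hG in
theorem not_comm_normal {K : Subgroup G} (hK : K.Normal) (hne : K ≠ ⊥)
    (hcomm : ∀ x ∈ K, ∀ y ∈ K, Commute x y) : False := by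
  rcases hK.eq_bot_or_eq_top with h | h
  · exact hne h
  · exact hG ⟨⟨fun x y => hcomm x (h ▸ Subgroup.mem_top x) y (h ▸ Subgroup.mem_top y)⟩⟩

include hG hc in
theorem isConj_involutions {s s' : G} (hs : orderOf s = 2) (hs' : orderOf s' = 2) : IsConj s s' := by
  by_contra h
  have key : ∀ a : G, IsConj s a → Commute a s' := by
    intro a ha
    obtain ⟨g, rfl⟩ := isConj_iff.1 ha
    have ha2 : orderOf (g * s * g⁻¹) = 2 := (orderOf_conj g s).trans hs
    have hnc : ¬ IsConj (g * s * g⁻¹) s' := fun e => h (ha.trans e)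
    have heven := even_of_not_isConj ha2 hs' hnc
    exact trans' hc (ne_one (half_orderOf heven)) (half_commute_left ha2 hs' heven).symm
      (half_commute_right ha2 hs' heven)
  set K := Subgroup.normalClosure ({s} : Set G)
  refine not_comm_normal hG (K := K) inferInstance ?_ fun x hx y hy => ?_
  · intro e
    have : s ∈ K := Subgroup.subset_normalClosure rfl
    rw [e, Subgroup.mem_bot] at this
    exact ne_one hs this
  · have hle : K ≤ cz s' := by
      refine (Subgroup.closure_le _).2 fun a ha => ?_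
      obtain ⟨b, hb, hba⟩ := Group.mem_conjugatesOfSet_iff.1 ha
      exact mem_cz.2 (key a (hb ▸ hba))
    exact cz_comm hc (ne_one hs') (hle hx) (hle hy)

end

variable {t : G} (ht : orderOf t = 2)

/-- The normaliser of the involution centraliser. -/
abbrev nz (t : G) : Subgroup G := Subgroup.normalizer ((cz t : Subgroup G) : Set G)

/-- The two-point stabiliser attached to `u`. -/
abbrev qz (t u : G) : Subgroup G := nz t ⊓ (nz t).comap (MulAut.conj u).toMonoidHom

theorem mem_qz {t u x : G} : x ∈ qz t u ↔ x ∈ nz t ∧ u * x * u⁻¹ ∈ nz t := Iff.rfl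

theorem t_mem : t ∈ cz t := mem_cz.2 (Commute.refl t)

theorem conj_mem {g a : G} (hg : g ∈ nz t) (ha : a ∈ cz t) : g * a * g⁻¹ ∈ cz t :=
  (Subgroup.mem_normalizer_iff.1 hg a).1 ha

/-- The involutions of the centraliser. -/
abbrev invs (t : G) := {x : G // x ∈ cz t ∧ orderOf x = 2}

include hc ht

theorem cz_of_mem {a : G} (ha : a ∈ cz t) (ha1 : a ≠ 1) : cz a = cz t :=
  cz_eq hc (ne_one ht) ha1 (mem_cz.1 ha)

theorem mem_of_commute {a x : G} (ha : a ∈ cz t) (ha1 : a ≠ 1) (hx : Commute x a) : x ∈ cz t :=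
  cz_of_mem hc ht ha ha1 ▸ mem_cz.2 hx

theorem mem_nz_of_meet {g a : G} (ha : a ∈ cz t) (ha1 : a ≠ 1) (h : g * a * g⁻¹ ∈ cz t) : g ∈ nz t := by
  rw [Subgroup.mem_normalizer_iff]
  intro x
  change x ∈ cz t ↔ g * x * g⁻¹ ∈ cz t
  have h1 := cz_of_mem hc ht ha ha1
  have h2 := cz_of_mem hc ht h (fun e => ha1 (conj_eq_one_iff.1 e))
  conv_lhs => rw [← h1]
  conv_rhs => rw [← h2]
  rw [mem_cz, mem_cz]
  exact (Commute.conj_iff g).symm

variable [IsSimpleGroup G] (hG : ¬ IsMulCommutative G)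

include hG

theorem nz_ne_top : nz t ≠ ⊤ := fun e =>
  not_comm_normal hG (Subgroup.normalizer_eq_top_iff.1 e) (fun h => ne_one ht (by
    have := t_mem (t := t); rwa [h, Subgroup.mem_bot] at this))
    fun _ hx _ hy => cz_comm hc (ne_one ht) hx hy

theorem exists_conj_eq {s : G} (hs : orderOf s = 2) : ∃ g, g * t * g⁻¹ = s :=
  isConj_iff.1 (isConj_involutions hc hG ht hs)

theorem relIndex_eq : (cz t).relIndex (nz t) = Nat.card (invs t) := by
  let f : nz t → invs t := fun g => ⟨(g : G) * t * (g : G)⁻¹, conj_mem g.2 t_mem, (orderOf_conj _ _).trans ht⟩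
  have key : ∀ g h : nz t, f g = f h ↔ g⁻¹ * h ∈ (cz t).subgroupOf (nz t) := fun g h => by
    rw [Subgroup.mem_subgroupOf, mem_cz, Subtype.ext_iff]
    show (g : G) * t * (g : G)⁻¹ = h * t * (h : G)⁻¹ ↔ ((g : G)⁻¹ * h) * t = t * ((g : G)⁻¹ * h)
    constructor <;> intro e
    · calc (g : G)⁻¹ * h * t = (g : G)⁻¹ * (h * t * (h : G)⁻¹) * h := by group
        _ = (g : G)⁻¹ * (g * t * (g : G)⁻¹) * h := by rw [e]
        _ = _ := by group
    · calc (g : G) * t * (g : G)⁻¹ = g * (t * ((g : G)⁻¹ * h)) * (h : G)⁻¹ := by group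
        _ = g * ((g : G)⁻¹ * h * t) * (h : G)⁻¹ := by rw [e]
        _ = _ := by group
  let F : nz t ⧸ (cz t).subgroupOf (nz t) → invs t :=
    Quotient.lift f fun g h hgh => (key g h).2 (QuotientGroup.leftRel_apply.1 hgh)
  refine Nat.card_congr (Equiv.ofBijective F ⟨?_, fun s => ?_⟩)
  · intro x y
    induction x using QuotientGroup.induction_on with | H g => ?_
    induction y using QuotientGroup.induction_on with | H h => ?_
    intro e
    exact QuotientGroup.eq.2 ((key g h).1 e)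
  · obtain ⟨g, hg⟩ := exists_conj_eq hc ht hG s.2.2
    have : g ∈ nz t := mem_nz_of_meet hc ht t_mem (ne_one ht) (hg ▸ s.2.1)
    exact ⟨((⟨g, this⟩ : nz t) : nz t ⧸ _), Subtype.ext hg⟩

theorem odd_invs : Odd (Nat.card (invs t)) := by
  classical
  let W : Subgroup G :=
    { carrier := {x | x ∈ cz t ∧ x * x = 1}
      one_mem' := ⟨one_mem _, one_mul 1⟩
      mul_mem' := fun {x y} hx hy => ⟨mul_mem hx.1 hy.1, by
        have := cz_comm hc (ne_one ht) hx.1 hy.1
        calc x * y * (x * y) = x * (y * x) * y := by group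
          _ = x * (x * y) * y := by rw [this.eq]
          _ = (x * x) * (y * y) := by group
          _ = 1 := by rw [hx.2, hy.2, mul_one]⟩
      inv_mem' := fun {x} hx => ⟨inv_mem hx.1, by rw [← mul_inv_rev, hx.2, inv_one]⟩ }
  have e : Nat.card W = Nat.card (invs t) + 1 := by
    have : (W : Set G) = insert 1 {x | x ∈ cz t ∧ orderOf x = 2} := by
      ext x
      constructor
      · intro hx
        by_cases h : x = 1
        · exact Or.inl h
        · exact Or.inr ⟨hx.1, orderOf_eq_two hx.2 h⟩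
      · rintro (rfl | hx)
        · exact W.one_mem
        · exact ⟨hx.1, mul_self hx.2⟩
    calc Nat.card W = (W : Set G).ncard := (Nat.card_coe_set_eq _)
      _ = _ := by
        rw [this, Set.ncard_insert_of_notMem (fun h => ne_one h.2 rfl) (Set.toFinite _), ← Nat.card_coe_set_eq]
        rfl
  have h2 : orderOf t ∣ Nat.card W := W.orderOf_dvd_natCard ⟨t_mem, mul_self ht⟩
  rw [ht, e] at h2
  rw [Nat.odd_iff]
  omega

theorem mem_cz_of_involution {s : G} (hs : s ∈ nz t) (hs2 : s * s = 1) : s ∈ cz t := by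
  set K := (cz t).subgroupOf (nz t)
  have hK : K.Normal := Subgroup.normal_in_normalizer
  have hcard : Nat.card (nz t ⧸ K) = Nat.card (invs t) := relIndex_eq hc ht hG
  have h1 : orderOf ((⟨s, hs⟩ : nz t) : nz t ⧸ K) ∣ 2 := orderOf_dvd_of_pow_eq_one (by
    rw [pow_two, ← QuotientGroup.mk_mul]
    exact (QuotientGroup.eq_one_iff _).2 (by
      show s * s ∈ cz t
      rw [hs2]; exact one_mem _))
  have h2 := hcard ▸ orderOf_dvd_natCard ((⟨s, hs⟩ : nz t) : nz t ⧸ K)
  rcases (Nat.dvd_prime Nat.prime_two).1 h1 with h | h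
  · exact (QuotientGroup.eq_one_iff (⟨s, hs⟩ : nz t)).1 (orderOf_eq_one_iff.1 h)
  · rw [h] at h2
    exact absurd (even_iff_two_dvd.2 h2) (Nat.not_even_iff_odd.2 (odd_invs hc ht hG))

variable {u : G} (hu : orderOf u = 2) (huN : u ∉ nz t)

include hu huN

theorem qz_inf {a : G} (haQ : a ∈ qz t u) (ha : a ∈ cz t) : a = 1 := by
  by_contra ha1
  have huu : u⁻¹ = u := inv_eq hu
  set a' := u * a * u⁻¹ with ha'
  have hc1 : a' * a * a'⁻¹ * a⁻¹ ∈ cz t := mul_mem (conj_mem haQ.2 ha) (inv_mem ha)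
  have hc2 : u * (a' * a * a'⁻¹ * a⁻¹) * u⁻¹ ∈ cz t := by
    have e : u * (a' * a * a'⁻¹ * a⁻¹) * u⁻¹ = a * (a' * a⁻¹ * a'⁻¹) := by
      have e1 : u * a' * u⁻¹ = a := by
        rw [ha', huu]
        calc u * (u * a * u) * u = (u * u) * a * (u * u) := by group
          _ = a := by rw [mul_self hu, one_mul, mul_one]
      calc u * (a' * a * a'⁻¹ * a⁻¹) * u⁻¹
          = (u * a' * u⁻¹) * (u * a * u⁻¹) * (u * a' * u⁻¹)⁻¹ * (u * a * u⁻¹)⁻¹ := by group
        _ = a * a' * a⁻¹ * a'⁻¹ := by rw [e1]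
        _ = _ := by group
    rw [e]
    exact mul_mem ha (conj_mem haQ.2 (inv_mem ha))
  have hcomm : Commute a' a := by
    by_contra hne
    exact huN (mem_nz_of_meet hc ht hc1 (fun e => hne (mul_inv_eq_one.1 (by
      calc a' * a * (a * a')⁻¹ = a' * a * a'⁻¹ * a⁻¹ := by group
        _ = 1 := e))) hc2)
  exact huN (mem_nz_of_meet hc ht ha ha1 (mem_of_commute hc ht ha ha1 hcomm))

theorem card_qz_le : Nat.card (qz t u) ≤ Nat.card (invs t) := by
  refine Nat.card_le_card_of_injective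
    (fun q : qz t u => (⟨(q : G) * t * (q : G)⁻¹, conj_mem q.2.1 t_mem, (orderOf_conj _ _).trans ht⟩ : invs t))
    fun q r e => ?_
  have e' : (q : G) * t * (q : G)⁻¹ = r * t * (r : G)⁻¹ := congrArg Subtype.val e
  have h1 : (r : G)⁻¹ * q = 1 := qz_inf hc ht hG hu huN (mul_mem (inv_mem r.2) q.2) (mem_cz.2 (by
    calc (r : G)⁻¹ * q * t = (r : G)⁻¹ * (q * t * (q : G)⁻¹) * q := by group
      _ = (r : G)⁻¹ * (r * t * (r : G)⁻¹) * q := by rw [e']
      _ = _ := by group))
  exact Subtype.ext (inv_mul_eq_one.1 h1).symm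

omit hu huN

/-- Every coset of the normaliser contains an involution, and two-point stabilisers are inverted. -/
theorem count : (∀ g : G, ∃ v : G, orderOf v = 2 ∧ (v : G ⧸ nz t) = g) ∧
    ∀ u : G, orderOf u = 2 → u ∉ nz t →
      Nat.card (qz t u) = Nat.card (invs t) ∧ ∀ q ∈ qz t u, u * q * u⁻¹ = q⁻¹ := by
  classical
  letI := Fintype.ofFinite G
  letI := Fintype.ofFinite (G ⧸ nz t)
  set i := Nat.card (invs t)
  have hall : Nat.card {v : G // orderOf v = 2} = i * (nz t).index := by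
    rw [show i = (cz t).relIndex (nz t) from (relIndex_eq hc ht hG).symm,
      Subgroup.relIndex_mul_index Subgroup.le_normalizer, Subgroup.index]
    let F : G ⧸ cz t → {v : G // orderOf v = 2} :=
      Quotient.lift (fun g => ⟨g * t * g⁻¹, (orderOf_conj _ _).trans ht⟩) fun g h hgh => Subtype.ext (by
        have e : g⁻¹ * h * t = t * (g⁻¹ * h) := mem_cz.1 (QuotientGroup.leftRel_apply.1 hgh)
        show g * t * g⁻¹ = h * t * h⁻¹
        calc g * t * g⁻¹ = g * (t * (g⁻¹ * h)) * h⁻¹ := by group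
          _ = g * (g⁻¹ * h * t) * h⁻¹ := by rw [e]
          _ = _ := by group)
    refine (Nat.card_congr (Equiv.ofBijective F ⟨?_, fun s => ?_⟩)).symm
    · intro x y
      induction x using QuotientGroup.induction_on with | H g => ?_
      induction y using QuotientGroup.induction_on with | H h => ?_
      intro e
      have e' : g * t * g⁻¹ = h * t * h⁻¹ := congrArg Subtype.val e
      refine QuotientGroup.eq.2 (mem_cz.2 ?_)
      calc g⁻¹ * h * t = g⁻¹ * (h * t * h⁻¹) * h := by group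
        _ = g⁻¹ * (g * t * g⁻¹) * h := by rw [e']
        _ = _ := by group
    · obtain ⟨g, hg⟩ := exists_conj_eq hc ht hG s.2
      exact ⟨(g : G ⧸ cz t), Subtype.ext hg⟩
  let V : Finset G := Finset.univ.filter fun v => orderOf v = 2
  let fib : G ⧸ nz t → Finset G := fun p => V.filter fun v => (v : G ⧸ nz t) = p
  have hV : V.card = i * (nz t).index := by rw [← hall, Nat.card_eq_fintype_card, Fintype.card_subtype]
  have hmap : ∀ u : G, orderOf u = 2 → u ∉ nz t → ∀ v ∈ fib (u : G ⧸ nz t),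
      u * v ∈ qz t u ∧ u * (u * v) * u⁻¹ = (u * v)⁻¹ := by
    intro u hu huN v hv
    obtain ⟨hv2, hvp⟩ := Finset.mem_filter.1 hv
    have hv2' : orderOf v = 2 := (Finset.mem_filter.1 hv2).2
    have hn : u * v ∈ nz t := by
      have := QuotientGroup.eq.1 hvp.symm
      rwa [inv_eq hu] at this
    have e := conj_mul_left hu hv2'
    exact ⟨⟨hn, (e ▸ inv_mem hn : u * (u * v) * u⁻¹ ∈ nz t)⟩, e⟩
  have hle : ∀ p ∈ (Finset.univ : Finset (G ⧸ nz t)), (fib p).card ≤ i := by
    intro p _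
    rcases (fib p).eq_empty_or_nonempty with h | ⟨u, hu⟩
    · simp [h]
    obtain ⟨hu2, hup⟩ := Finset.mem_filter.1 hu
    have hu2' : orderOf u = 2 := (Finset.mem_filter.1 hu2).2
    rw [← Nat.card_eq_finsetCard]
    by_cases huN : u ∈ nz t
    · refine Nat.card_le_card_of_injective (fun v : fib p => (⟨v, ?_, (Finset.mem_filter.1
        (Finset.mem_filter.1 v.2).1).2⟩ : invs t)) fun v w e => Subtype.ext (congrArg (fun x : invs t => (x : G)) e)
      obtain ⟨hv2, hvp⟩ := Finset.mem_filter.1 v.2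
      have h1 := QuotientGroup.eq.1 (hup.trans hvp.symm)
      refine mem_cz_of_involution hc ht hG ?_ (mul_self (Finset.mem_filter.1 hv2).2)
      have := mul_mem huN h1
      rwa [← mul_assoc, mul_inv_cancel, one_mul] at this
    · refine le_trans ?_ (card_qz_le hc ht hG hu2' huN)
      exact Nat.card_le_card_of_injective
        (fun v : fib p => (⟨u * v, (hmap u hu2' huN v (by rw [hup]; exact v.2)).1⟩ : qz t u))
        fun v w e => Subtype.ext (mul_left_cancel (congrArg Subtype.val e))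
  have hsum : ∑ p, (fib p).card = ∑ _p : G ⧸ nz t, i := by
    rw [← Finset.card_eq_sum_card_fiberwise (fun v _ => Finset.mem_univ _), hV, Finset.sum_const, Finset.card_univ,
      smul_eq_mul, Subgroup.index, Nat.card_eq_fintype_card, mul_comm]
  have heq := (Finset.sum_eq_sum_iff_of_le hle).1 hsum
  have hi : 0 < i := Nat.card_pos_iff.2 ⟨⟨⟨t, t_mem, ht⟩⟩, inferInstance⟩
  refine ⟨fun g => ?_, fun u hu huN => ?_⟩
  · obtain ⟨v, hv⟩ := Finset.card_pos.1 ((heq (g : G ⧸ nz t) (Finset.mem_univ _)).symm ▸ hi)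
    exact ⟨v, (Finset.mem_filter.1 (Finset.mem_filter.1 hv).1).2, (Finset.mem_filter.1 hv).2⟩
  · let f : fib (u : G ⧸ nz t) → qz t u := fun v => ⟨u * v, (hmap u hu huN v v.2).1⟩
    have hinj : Function.Injective f := fun v w e => Subtype.ext (mul_left_cancel (congrArg Subtype.val e))
    have h1 := Nat.card_le_card_of_injective f hinj
    rw [Nat.card_eq_finsetCard, heq _ (Finset.mem_univ _)] at h1
    have hQ : Nat.card (qz t u) = i := le_antisymm (card_qz_le hc ht hG hu huN) h1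
    refine ⟨hQ, fun q hq => ?_⟩
    have hb : Function.Bijective f := (Nat.bijective_iff_injective_and_card f).2
      ⟨hinj, by rw [Nat.card_eq_finsetCard, heq _ (Finset.mem_univ _), hQ]⟩
    obtain ⟨v, hv⟩ := hb.2 ⟨q, hq⟩
    have := (hmap u hu huN v v.2).2
    rwa [show u * (v : G) = q from congrArg Subtype.val hv] at this

theorem exists_swap {g : G} (hg : g ∉ nz t) : ∃ v : G, orderOf v = 2 ∧ v ∉ nz t ∧ (v : G ⧸ nz t) = g := by
  obtain ⟨v, hv, e⟩ := (count hc ht hG).1 g
  refine ⟨v, hv, fun hvN => hg ?_, e⟩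
  have := mul_mem hvN (QuotientGroup.eq.1 e)
  rwa [← mul_assoc, mul_inv_cancel, one_mul] at this

theorem one_lt_invs : 1 < Nat.card (invs t) := by
  by_contra h
  haveI : Subsingleton (invs t) := Finite.card_le_one_iff_subsingleton.1 (by omega)
  haveI : Fact (Nat.Prime 2) := ⟨Nat.prime_two⟩
  have h2 : IsPGroup 2 (Subgroup.zpowers t) := IsPGroup.of_card (n := 1) (by rw [Nat.card_zpowers, ht, pow_one])
  obtain ⟨P, hP⟩ := h2.exists_le_sylow
  have htP : t ∈ (P : Subgroup G) := hP (Subgroup.mem_zpowers t)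
  haveI : Nontrivial (P : Subgroup G) := ⟨⟨t, htP⟩, 1, fun e => ne_one ht (congrArg Subtype.val e)⟩
  haveI := P.2.center_nontrivial
  obtain ⟨z, hz⟩ := exists_ne (1 : Subgroup.center (P : Subgroup G))
  have hzc : ∀ c ∈ (P : Subgroup G), Commute c ((z : (P : Subgroup G)) : G) := fun c hcP =>
    congrArg Subtype.val (Subgroup.mem_center_iff.1 z.2 ⟨c, hcP⟩)
  have hPA : (P : Subgroup G) ≤ cz t := fun c hcP =>
    mem_of_commute hc ht (mem_cz.2 (hzc t htP).symm) (fun e => hz (Subtype.ext (Subtype.ext e))) (hzc c hcP)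
  have hNC : Subgroup.normalizer ((P : Subgroup G) : Set G) ≤ Subgroup.centralizer ((P : Subgroup G) : Set G) := by
    intro g hg
    have hgt : g * t * g⁻¹ ∈ cz t := hPA ((Subgroup.mem_normalizer_iff.1 hg t).1 htP)
    have e : g * t * g⁻¹ = t := congrArg Subtype.val
      (Subsingleton.elim (⟨_, hgt, (orderOf_conj g t).trans ht⟩ : invs t) ⟨t, t_mem, ht⟩)
    have hga : g ∈ cz t := mem_cz.2 (mul_inv_eq_iff_eq_mul.1 e)
    exact fun c hcP => cz_comm hc (ne_one ht) (hPA hcP) hga
  have hcompl := MonoidHom.ker_transferSylow_isComplement' P hNC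
  rcases (MonoidHom.normal_ker (MonoidHom.transferSylow P hNC)).eq_bot_or_eq_top with hk | hk
  · rw [hk, Subgroup.isComplement'_bot_left] at hcompl
    refine hG ⟨⟨fun x y => ?_⟩⟩
    exact cz_comm hc (ne_one ht) (hPA (hcompl ▸ Subgroup.mem_top x)) (hPA (hcompl ▸ Subgroup.mem_top y))
  · rw [hk, Subgroup.isComplement'_top_left] at hcompl
    rw [hcompl, Subgroup.mem_bot] at htP
    exact ne_one ht htP

include hu huN

theorem inverts {q : G} (hq : q ∈ qz t u) : u * q * u⁻¹ = q⁻¹ := ((count hc ht hG).2 u hu huN).2 q hq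

theorem card_qz : Nat.card (qz t u) = Nat.card (invs t) := ((count hc ht hG).2 u hu huN).1

theorem qz_comm {q r : G} (hq : q ∈ qz t u) (hr : r ∈ qz t u) : Commute q r := by
  have h1 := inverts hc ht hG hu huN (mul_mem hq hr)
  have e : q⁻¹ * r⁻¹ = (q * r)⁻¹ := by
    rw [← h1, ← inverts hc ht hG hu huN hq, ← inverts hc ht hG hu huN hr]; group
  calc q * r = (r⁻¹ * q⁻¹)⁻¹ := by group
    _ = ((q * r)⁻¹)⁻¹ := by group
    _ = (q⁻¹ * r⁻¹)⁻¹ := by rw [e]
    _ = r * q := by group

theorem sq_ne {q : G} (hq : q ∈ qz t u) (hq1 : q ≠ 1) : q * q ≠ 1 := fun e =>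
  hq1 (qz_inf hc ht hG hu huN hq (mem_cz_of_involution hc ht hG hq.1 e))

theorem cz_qz {q : G} (hq : q ∈ qz t u) (hq1 : q ≠ 1) {b : G} (hb : Commute b q) : b ∈ qz t u := by
  have huu := inv_eq hu
  have hinv : ∀ b, Commute b q → u * b * u⁻¹ = b⁻¹ := by
    intro b hb
    have h' : Commute (u * b * u⁻¹) q := by
      have h := (hb.inv_right).map (MulAut.conj u).toMonoidHom
      have e : u * q⁻¹ * u⁻¹ = q :=
        calc u * q⁻¹ * u⁻¹ = (u * q * u⁻¹)⁻¹ := by group
          _ = q := by rw [inverts hc ht hG hu huN hq, inv_inv]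
      simpa [MulAut.conj_apply, e] using h
    set w := b * (u * b * u⁻¹) with hw
    have hbb : Commute b (u * b * u⁻¹) := cz_comm hc hq1 (mem_cz.2 hb) (mem_cz.2 h')
    by_contra hne
    have hw1 : w ≠ 1 := fun e => hne (eq_inv_of_mul_eq_one_right e)
    have huw : Commute u w := by
      have e : u * w * u⁻¹ = w := by
        calc u * w * u⁻¹ = (u * b * u⁻¹) * (u * u * b * (u⁻¹ * u⁻¹)) := by rw [hw]; group
          _ = (u * b * u⁻¹) * b := by rw [huu, mul_self hu, one_mul, mul_one]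
          _ = w := hbb.eq.symm
      exact mul_inv_eq_iff_eq_mul.1 e
    have huq := trans' hc hw1 huw (hb.mul_left h')
    have h := inverts hc ht hG hu huN hq
    rw [huq.eq, mul_inv_cancel_right] at h
    refine sq_ne hc ht hG hu huN hq hq1 ?_
    nth_rewrite 2 [h]
    exact mul_inv_cancel q
  by_cases hbN : b ∈ nz t
  · exact ⟨hbN, (hinv b hb ▸ inv_mem hbN : u * b * u⁻¹ ∈ nz t)⟩
  exfalso
  obtain ⟨v, hv, hvN, hvb⟩ := exists_swap hc ht hG hbN
  set n := v⁻¹ * b with hn
  have hnN : n ∈ nz t := QuotientGroup.eq.1 hvb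
  have hqv : q ∈ qz t v := by
    refine ⟨hq.1, (?_ : v * q * v⁻¹ ∈ nz t)⟩
    have e : v * q * v⁻¹ = n * q * n⁻¹ := by
      calc v * q * v⁻¹ = v⁻¹ * q * v := by rw [inv_eq hv]
        _ = n * (b⁻¹ * (q * b)) * n⁻¹ := by rw [hn]; group
        _ = n * (b⁻¹ * (b * q)) * n⁻¹ := by rw [hb.eq]
        _ = _ := by group
    rw [e]
    exact mul_mem (mul_mem hnN hq.1) (inv_mem hnN)
  have hvq := inverts hc ht hG hv hvN hqv
  have huv : Commute (u * v) q := by
    show u * v * q = q * (u * v)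
    calc u * v * q = u * (v * q * v⁻¹) * v := by group
      _ = (u * q * u⁻¹)⁻¹ * (u * v) := by rw [hvq]; group
      _ = _ := by rw [inverts hc ht hG hu huN hq, inv_inv]
  have hbuv : Commute b (u * v) := cz_comm hc hq1 (mem_cz.2 hb) (mem_cz.2 huv)
  -- the element `b⁻¹ v` lies in `N` and inverts `q`
  set w := b⁻¹ * v with hw
  have hwN : w ∈ nz t := by
    have := inv_mem hnN
    rwa [hn, mul_inv_rev, inv_inv] at this
  have hwq : w * q * w⁻¹ = q⁻¹ := by
    calc w * q * w⁻¹ = b⁻¹ * (v * q * v⁻¹) * b := by rw [hw]; group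
      _ = b⁻¹ * (q⁻¹ * b) := by rw [hvq]; group
      _ = b⁻¹ * (b * q⁻¹) := by rw [hb.inv_right.eq]
      _ = _ := by group
  have hw2 : w * w = 1 := by
    have hbq : Commute b⁻¹ q := hb.inv_left
    have hv' : v * b⁻¹ * v⁻¹ = b := by
      have hib := hinv _ hbq
      have hcomm : Commute (u * v) b⁻¹ := (hbuv.inv_left).symm
      calc v * b⁻¹ * v⁻¹ = u⁻¹ * ((u * v) * b⁻¹) * v⁻¹ := by group
        _ = u⁻¹ * (b⁻¹ * (u * v)) * v⁻¹ := by rw [hcomm.eq]
        _ = u⁻¹ * b⁻¹ * u := by group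
        _ = u * b⁻¹ * u⁻¹ := by rw [huu]
        _ = b := by rw [hib, inv_inv]
    calc w * w = b⁻¹ * (v * b⁻¹ * v⁻¹) * (v * v) := by rw [hw]; group
      _ = 1 := by rw [hv', mul_self hv, mul_one, inv_mul_cancel]
  have hwA := mem_cz_of_involution hc ht hG hwN hw2
  have h2 : w * q * w⁻¹ * q⁻¹ ∈ cz t := by
    have : w * (q * w⁻¹ * q⁻¹) ∈ cz t := mul_mem hwA (conj_mem hq.1 (inv_mem hwA))
    simpa [mul_assoc] using this
  rw [hwq] at h2
  have h3 := qz_inf hc ht hG hu huN (mul_mem (inv_mem hq) (inv_mem hq)) h2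
  refine sq_ne hc ht hG hu huN hq hq1 ?_
  rw [← inv_eq_one, mul_inv_rev]
  exact h3

theorem fixed_unique {q g : G} (hq : q ∈ qz t u) (hq1 : q ≠ 1) (hg : g ∉ nz t) (hfix : g⁻¹ * q * g ∈ nz t) :
    (g : G ⧸ nz t) = u := by
  obtain ⟨v, hv, hvN, hvg⟩ := exists_swap hc ht hG hg
  have hn : v⁻¹ * g ∈ nz t := QuotientGroup.eq.1 hvg
  have hqv : q ∈ qz t v := by
    refine ⟨hq.1, (?_ : v * q * v⁻¹ ∈ nz t)⟩
    have e : v * q * v⁻¹ = (v⁻¹ * g) * (g⁻¹ * q * g) * (v⁻¹ * g)⁻¹ := by
      calc v * q * v⁻¹ = v⁻¹ * q * v := by rw [inv_eq hv]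
        _ = _ := by group
    rw [e]
    exact mul_mem (mul_mem hn hfix) (inv_mem hn)
  have hvq := inverts hc ht hG hv hvN hqv
  have huv : Commute (u * v) q := by
    show u * v * q = q * (u * v)
    calc u * v * q = u * (v * q * v⁻¹) * v := by group
      _ = (u * q * u⁻¹)⁻¹ * (u * v) := by rw [hvq]; group
      _ = _ := by rw [inverts hc ht hG hu huN hq, inv_inv]
  rw [← hvg]
  refine (QuotientGroup.eq.2 ?_).symm
  rw [inv_eq hu]
  exact (cz_qz hc ht hG hu huN hq hq1 huv).1

end CfsgLib.Recognition.CAGroup
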