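import Cfsg.Prelude.Def_LieExceptional
import Cfsg.Agent.Lib.Recognition.CAGroup.Local
import Cfsg.Agent.Lib.Perm.ZGroup.Index
import Cfsg.Agent.Lib.Involution.RecognisePSL2
import Cfsg.Agent.Lib.Perm.SharpThreeOdd

/-!
# The simple groups in which commuting is transitive
-/

set_option autoImplicit false
set_option linter.unusedSectionVars false

namespace CfsgLib.Recognition.CAGroup

open CfsgLib.Involution.Dihedral MulAction

variable {G : Type*} [Group G] [Finite G] {t : G}

theorem mk_eq_one {g : G} : (g : G ⧸ nz t) = ((1 : G) : G ⧸ nz t) ↔ g ∈ nz t := by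
  rw [QuotientGroup.eq, mul_one, inv_mem_iff]

theorem fixes_iff {g h : G} : g • (h : G ⧸ nz t) = (h : G ⧸ nz t) ↔ h⁻¹ * g * h ∈ nz t := by
  show ((g * h : G) : G ⧸ nz t) = h ↔ _
  rw [eq_comm, QuotientGroup.eq, mul_assoc]

theorem fixes_one_iff {g : G} : g • ((1 : G) : G ⧸ nz t) = ((1 : G) : G ⧸ nz t) ↔ g ∈ nz t := by
  rw [fixes_iff, inv_one, one_mul, mul_one]

variable [IsSimpleGroup G] (hG : ¬ IsMulCommutative G) (hc : CA G) (ht : orderOf t = 2)

include hG hc ht

theorem mem_qz_of_fix {u g : G} (hu : orderOf u = 2) (h1 : g • ((1 : G) : G ⧸ nz t) = ((1 : G) : G ⧸ nz t))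
    (h2 : g • (u : G ⧸ nz t) = u) : g ∈ qz t u := by
  refine ⟨fixes_one_iff.1 h1, (?_ : u * g * u⁻¹ ∈ nz t)⟩
  have h := fixes_iff.1 h2
  rw [inv_eq hu] at h
  rwa [inv_eq hu]

/-- The centraliser acts regularly on the remaining points. -/
theorem regular : ∀ y z : G ⧸ nz t, y ≠ ((1 : G) : G ⧸ nz t) → z ≠ ((1 : G) : G ⧸ nz t) →
    ∃! a : cz t, (a : G) • y = z := by
  classical
  letI := Fintype.ofFinite G
  letI := Fintype.ofFinite (G ⧸ nz t)
  set α := ((1 : G) : G ⧸ nz t)
  have rep : ∀ p : G ⧸ nz t, p ≠ α → ∃ u : G, orderOf u = 2 ∧ u ∉ nz t ∧ (u : G ⧸ nz t) = p := fun p hp => by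
    induction p using QuotientGroup.induction_on with | H g => ?_
    exact exists_swap hc ht hG fun h => hp (mk_eq_one.2 h)
  choose v hv hvN hvp using rep
  have free : ∀ a ∈ cz t, ∀ p, p ≠ α → a • p = p → a = 1 := fun a ha p hp e =>
    qz_inf hc ht hG (hv p hp) (hvN p hp) (mem_qz_of_fix hG hc ht (hv p hp)
      (fixes_one_iff.2 (Subgroup.le_normalizer ha)) (by rw [hvp]; exact e)) ha
  -- the non-identity elements of the two-point stabilisers
  let T := Σ p : {p : G ⧸ nz t // p ≠ α}, {q : qz t (v p p.2) // q ≠ 1}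
  let U := {x : nz t // x ∉ (cz t).subgroupOf (nz t)}
  let f : T → U := fun x => ⟨⟨(x.2.1 : G), x.2.1.2.1⟩, fun h => x.2.2 (Subtype.ext
    (qz_inf hc ht hG (hv _ x.1.2) (hvN _ x.1.2) x.2.1.2 h))⟩
  have hfix : ∀ x : T, (x.2.1 : G) • x.1.1 = x.1.1 := fun x => by
    have h : v x.1.1 x.1.2 * (x.2.1 : G) * (v x.1.1 x.1.2)⁻¹ ∈ nz t := x.2.1.2.2
    have e : (x.2.1 : G) • ((v x.1.1 x.1.2 : G) : G ⧸ nz t) = (v x.1.1 x.1.2 : G) := by
      rw [fixes_iff, inv_eq (hv _ x.1.2)]
      rwa [inv_eq (hv _ x.1.2)] at h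
    simpa only [hvp] using e
  have hinj : Function.Injective f := by
    rintro ⟨⟨p, hp⟩, ⟨q, hq⟩⟩ ⟨⟨p', hp'⟩, ⟨q', hq'⟩⟩ e
    have e' : (q : G) = q' := congrArg (fun x : U => ((x.1 : nz t) : G)) e
    have h1 : (q : G) • p' = p' := e' ▸ hfix ⟨⟨p', hp'⟩, ⟨q', hq'⟩⟩
    have h2 : p = p' := by
      rw [← hvp p hp, ← hvp p' hp']
      refine (fixed_unique hc ht hG (hv p hp) (hvN p hp) q.2 (fun e => hq (Subtype.ext e)) (hvN p' hp') ?_).symm
      rw [← fixes_iff, hvp p' hp']; exact h1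
    subst h2
    obtain rfl : q = q' := Subtype.ext e'
    rfl
  have hTc := Nat.card_le_card_of_injective f hinj
  set i := Nat.card (invs t)
  set m := Nat.card (cz t)
  have hi : 1 < i := one_lt_invs hc ht hG
  have hfib : ∀ p : {p : G ⧸ nz t // p ≠ α}, Nat.card {q : qz t (v p p.2) // q ≠ 1} = i - 1 := fun p => by
    letI := Fintype.ofFinite (qz t (v p p.2))
    rw [Nat.card_eq_fintype_card, Fintype.card_subtype_compl, Fintype.card_subtype_eq, ← Nat.card_eq_fintype_card,
      card_qz hc ht hG (hv _ p.2) (hvN _ p.2)]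
  have hT : Nat.card T = Nat.card {p : G ⧸ nz t // p ≠ α} * (i - 1) := by
    rw [Nat.card_sigma, Finset.sum_congr rfl fun p _ => hfib p, Finset.sum_const, Finset.card_univ, smul_eq_mul,
      Nat.card_eq_fintype_card]
  have hU : Nat.card U = m * (i - 1) := by
    have hN : m * i = Nat.card (nz t) := by
      rw [show i = (cz t).relIndex (nz t) from (relIndex_eq hc ht hG).symm, Subgroup.relIndex,
        ← ((cz t).subgroupOf (nz t)).card_mul_index]
      congr 1
      exact (Nat.card_congr (Subgroup.subgroupOfEquivOfLe Subgroup.le_normalizer).toEquiv).symm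
    letI := Fintype.ofFinite (nz t)
    rw [Nat.card_eq_fintype_card, Fintype.card_subtype_compl, ← Nat.card_eq_fintype_card, ← hN,
      ← Nat.card_eq_fintype_card (α := {x : nz t // x ∈ (cz t).subgroupOf (nz t)}),
      Nat.card_congr (Subgroup.subgroupOfEquivOfLe Subgroup.le_normalizer).toEquiv, Nat.mul_sub_one]
  rw [hT, hU] at hTc
  have hle := Nat.le_of_mul_le_mul_right hTc (by omega)
  intro y z hy hz
  let g : cz t → {p : G ⧸ nz t // p ≠ α} := fun a => ⟨(a : G) • y, fun e => hy (MulAction.injective (a : G)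
    (e.trans (fixes_one_iff.2 (Subgroup.le_normalizer a.2)).symm))⟩
  have hg : Function.Injective g := fun a b e => by
    have e' : (a : G) • y = (b : G) • y := congrArg Subtype.val e
    exact Subtype.ext (inv_mul_eq_one.1 (free _ (mul_mem (inv_mem b.2) a.2) y hy
      (by rw [mul_smul, e', inv_smul_smul]))).symm
  have hb : Function.Bijective g := (Nat.bijective_iff_injective_and_card g).2
    ⟨hg, le_antisymm (Nat.card_le_card_of_injective g hg) hle⟩
  obtain ⟨a, ha⟩ := hb.2 ⟨z, hz⟩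
  exact ⟨a, congrArg Subtype.val ha, fun b hb' => hg (Subtype.ext (hb'.trans (congrArg Subtype.val ha).symm))⟩

theorem isZassenhaus : Cfsg.IsZassenhausGroup G (G ⧸ nz t) := by
  set α := ((1 : G) : G ⧸ nz t) with hα
  obtain ⟨g₀, hg₀⟩ : ∃ g, g ∉ nz t := by
    by_contra h
    push Not at h
    exact nz_ne_top hc ht hG ((Subgroup.eq_top_iff' _).2 h)
  obtain ⟨u, hu, huN, -⟩ := exists_swap hc ht hG hg₀
  obtain ⟨q, hq⟩ : ∃ q : qz t u, q ≠ 1 := by
    haveI : Nontrivial (qz t u) := Finite.one_lt_card_iff_nontrivial.1 (by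
      rw [card_qz hc ht hG hu huN]; exact one_lt_invs hc ht hG)
    exact exists_ne 1
  refine ⟨?_, ?_, ?_, ⟨q, fun e => hq (Subtype.ext e), α, (u : G ⧸ nz t), ?_, ?_, ?_⟩, ?_⟩
  · refine ⟨fun {g g'} h => ?_⟩
    have hker : (MulAction.toPermHom G (G ⧸ nz t)).ker = ⊥ := by
      refine (MonoidHom.normal_ker _).eq_bot_or_eq_top.resolve_right fun e => hg₀ ?_
      have : g₀ ∈ (MulAction.toPermHom G (G ⧸ nz t)).ker := e ▸ Subgroup.mem_top g₀
      rw [MonoidHom.mem_ker] at this
      exact fixes_one_iff.1 (DFunLike.congr_fun this α)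
    exact (MonoidHom.ker_eq_bot_iff _).1 hker (Equiv.ext h)
  · rw [is_two_pretransitive_iff]
    intro a b c d hab hcd
    obtain ⟨g, hg⟩ := exists_smul_eq G a α
    obtain ⟨g', hg'⟩ := exists_smul_eq G c α
    obtain ⟨k, hk, -⟩ := regular hG hc ht (g • b) (g' • d)
      (fun e => hab (MulAction.injective g (hg.trans e.symm))) (fun e => hcd (MulAction.injective g' (hg'.trans e.symm)))
    refine ⟨g'⁻¹ * (k : G) * g, ?_, ?_⟩
    · rw [mul_smul, mul_smul, hg, fixes_one_iff.2 (Subgroup.le_normalizer k.2), inv_smul_eq_iff]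
      exact hg'.symm
    · rw [mul_smul, mul_smul, hk, inv_smul_smul]
  · intro g a b c hab hbc hac ha hb hc'
    obtain ⟨k, hk⟩ := exists_smul_eq G a α
    by_contra hg1
    have hfx : ∀ p : G ⧸ nz t, g • p = p → (k * g * k⁻¹) • (k • p) = k • p := fun p hp => by
      rw [mul_smul, mul_smul, inv_smul_smul, hp]
    have h0 : (k * g * k⁻¹) • α = α := by rw [← hk]; exact hfx a ha
    have hne : k * g * k⁻¹ ≠ 1 := fun e => hg1 (conj_eq_one_iff.1 e)
    have key : ∀ p : G ⧸ nz t, p ≠ a → g • p = p → ∀ p' : G ⧸ nz t, p' ≠ a → g • p' = p' → k • p' = k • p := by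
      intro p hp hgp p' hp' hgp'
      have h1 : k • p ≠ α := fun e => hp (MulAction.injective k (e.trans hk.symm))
      have h2 : k • p' ≠ α := fun e => hp' (MulAction.injective k (e.trans hk.symm))
      have hfp := hfx p hgp
      have hfp' := hfx p' hgp'
      generalize k • p = P at h1 hfp ⊢
      generalize k • p' = P' at h2 hfp' ⊢
      induction P using QuotientGroup.induction_on with | H x => ?_
      induction P' using QuotientGroup.induction_on with | H x' => ?_
      obtain ⟨v, hv, hvN, hvx⟩ := exists_swap hc ht hG (fun h => h1 (mk_eq_one.2 h) : x ∉ nz t)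
      rw [← hvx] at hfp ⊢
      exact fixed_unique hc ht hG hv hvN (mem_qz_of_fix hG hc ht hv h0 hfp) hne
        (fun h => h2 (mk_eq_one.2 h)) (fixes_iff.1 hfp')
    exact hbc (MulAction.injective k (key c (Ne.symm hac) hc' b (Ne.symm hab) hb))
  · exact fun e => huN (mk_eq_one.1 e.symm)
  · exact fixes_one_iff.2 q.2.1
  · rw [fixes_iff, inv_eq hu]
    have := q.2.2
    have h : u * (q : G) * u⁻¹ ∈ nz t := this
    rwa [inv_eq hu] at h
  · intro K hK htr
    rcases hK.eq_bot_or_eq_top with rfl | rfl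
    · obtain ⟨k, hk⟩ := htr.exists_smul_eq α (u : G ⧸ nz t)
      have hk1 : (k : G) = 1 := Subgroup.mem_bot.1 k.2
      exact absurd (mk_eq_one.1 (by
        have : (k : G) • α = (u : G ⧸ nz t) := hk
        rw [hk1, one_smul] at this
        exact this.symm)) huN
    · refine ⟨α, fun h => ne_one ht ?_⟩
      have : (⟨t, Subgroup.mem_top t⟩ : (⊤ : Subgroup G)) ∈ stabilizer (⊤ : Subgroup G) α :=
        fixes_one_iff.2 (Subgroup.le_normalizer t_mem)
      exact congrArg Subtype.val ((Subgroup.eq_bot_iff_forall _).1 h _ this)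

theorem involutions_of_cz : ∀ a ∈ cz t, a * a = 1 := by
  classical
  letI := Fintype.ofFinite (G ⧸ nz t)
  set α := ((1 : G) : G ⧸ nz t)
  obtain ⟨g₀, hg₀⟩ : ∃ g, g ∉ nz t := by
    by_contra h
    push Not at h
    exact nz_ne_top hc ht hG ((Subgroup.eq_top_iff' _).2 h)
  obtain ⟨u, hu, huN, -⟩ := exists_swap hc ht hG hg₀
  let S : CfsgLib.Perm.ZGroup.Setup G (G ⧸ nz t) α (u : G ⧸ nz t) :=
    { hZ := isZassenhaus hG hc ht
      hab := fun e => huN (mk_eq_one.1 e.symm)
      F := cz t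
      hle := fun a ha => fixes_one_iff.2 (Subgroup.le_normalizer ha)
      hnorm := ⟨fun a ha g => conj_mem (t := t) (fixes_one_iff.1 g.2) ha⟩
      hreg := regular hG hc ht }
  have hH : S.H = qz t u := by
    ext g
    refine ⟨fun h => mem_qz_of_fix hG hc ht hu h.1 h.2, fun h => ⟨fixes_one_iff.2 h.1, ?_⟩⟩
    show g • (u : G ⧸ nz t) = u
    rw [fixes_iff, inv_eq hu]
    have h' : u * g * u⁻¹ ∈ nz t := h.2
    rwa [inv_eq hu] at h'
  have hcH : Nat.card S.H = Nat.card (invs t) := by rw [hH, card_qz hc ht hG hu huN]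
  have heven : 2 ∣ Nat.card (cz t) := ht ▸ Subgroup.orderOf_dvd_natCard _ t_mem
  have h1 : Nat.card (invs t) = Nat.card (cz t) - 1 := by
    have hpos : 0 < Nat.card (cz t) := Nat.card_pos
    rcases CfsgLib.Perm.ZGroup.small_index _ S ⟨⟨fun x y => Subtype.ext (cz_comm hc (ne_one ht) x.2 y.2)⟩⟩ hcH
      with h | h
    · exact h
    · have h' : 2 * Nat.card (invs t) = Nat.card (cz t) - 1 := h
      omega
  intro a ha
  by_contra hne
  let f : invs t → {x : cz t // x ≠ 1 ∧ x ≠ ⟨a, ha⟩} := fun s => ⟨⟨s, s.2.1⟩, fun e => ne_one s.2.2 (congrArg Subtype.val e),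
    fun e => hne (by
      have e' : (s : G) = a := congrArg Subtype.val e
      rw [← e']; exact mul_self s.2.2)⟩
  have hf : Function.Injective f := fun s s' e => Subtype.ext (congrArg (fun x : {x : cz t // x ≠ 1 ∧ x ≠ ⟨a, ha⟩} => ((x : cz t) : G)) e)
  have h2 := Nat.card_le_card_of_injective f hf
  letI := Fintype.ofFinite (cz t)
  have h3 : Nat.card {x : cz t // x ≠ 1 ∧ x ≠ ⟨a, ha⟩} + 2 = Nat.card (cz t) := by
    have ha1 : (⟨a, ha⟩ : cz t) ≠ 1 := fun e => hne (by
      rw [show a = 1 from congrArg Subtype.val e, one_mul])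
    rw [Nat.card_eq_fintype_card, Nat.card_eq_fintype_card, Fintype.card_subtype,
      show (Finset.univ.filter fun x : cz t => x ≠ 1 ∧ x ≠ ⟨a, ha⟩) = ({1, ⟨a, ha⟩} : Finset (cz t))ᶜ by ext x; simp,
      Finset.card_compl, Finset.card_pair (Ne.symm ha1)]
    have := Finset.card_le_univ ({1, ⟨a, ha⟩} : Finset (cz t))
    rw [Finset.card_pair (Ne.symm ha1)] at this
    omega
  omega

omit ht

theorem exists_psl : ∃ (F : Type) (_ : Field F) (_ : Fintype F) (f : ℕ), 2 ≤ f ∧ Fintype.card F = 2 ^ f ∧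
    Nonempty (G ≃* Matrix.ProjectiveSpecialLinearGroup (Fin 2) F) := by
  classical
  haveI : Fact (Nat.Prime 2) := ⟨Nat.prime_two⟩
  obtain ⟨t, ht⟩ := exists_involution hG hc
  have h2 : IsPGroup 2 (cz t) := fun x => ⟨1, Subtype.ext (by
    rw [pow_one, SubgroupClass.coe_pow, pow_two]; exact involutions_of_cz hG hc ht x x.2)⟩
  obtain ⟨T, hT⟩ := h2.exists_le_sylow
  have hHyp : CfsgLib.Involution.ElemCentralizer.Hyp T := by
    refine ⟨fun hcyc => ?_, fun hn => ?_, fun s hs => ?_⟩
    · haveI := hcyc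
      haveI : IsCyclic (cz t) := isCyclic_of_injective (Subgroup.inclusion hT) (Subgroup.inclusion_injective hT)
      have hexp : Monoid.exponent (cz t) ∣ 2 := Monoid.exponent_dvd_of_forall_pow_eq_one fun x => Subtype.ext (by
        rw [SubgroupClass.coe_pow, pow_two]; exact involutions_of_cz hG hc ht x x.2)
      rw [IsCyclic.exponent_eq_card] at hexp
      have h1 : Nat.card (invs t) ≤ 1 := by
        have hle := Nat.le_of_dvd two_pos hexp
        let f : invs t → {x : cz t // x ≠ 1} := fun s => ⟨⟨s, s.2.1⟩, fun e => ne_one s.2.2 (congrArg Subtype.val e)⟩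
        have := Nat.card_le_card_of_injective f fun s s' e =>
          Subtype.ext (congrArg (fun x : {x : cz t // x ≠ 1} => ((x : cz t) : G)) e)
        letI := Fintype.ofFinite (cz t)
        have hlt := Fintype.card_subtype_lt (p := fun x : cz t => x ≠ 1) (x := 1) fun h => h rfl
        rw [← Nat.card_eq_fintype_card, ← Nat.card_eq_fintype_card] at hlt
        omega
      have := one_lt_invs hc ht hG
      omega
    · haveI : Nontrivial (T : Subgroup G) := ⟨⟨t, hT t_mem⟩, 1, fun e => ne_one ht (congrArg Subtype.val e)⟩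
      haveI := T.2.center_nontrivial
      rcases hn.eq_bot_or_eq_top with h | h
      · have := hT (t_mem (t := t))
        rw [h, Subgroup.mem_bot] at this
        exact ne_one ht this
      · obtain ⟨z, hz⟩ := exists_ne (1 : Subgroup.center (T : Subgroup G))
        have hz1 : ((z : (T : Subgroup G)) : G) ≠ 1 := fun e => hz (Subtype.ext (Subtype.ext e))
        have hall : ∀ x : G, Commute x ((z : (T : Subgroup G)) : G) := fun x =>
          congrArg Subtype.val (Subgroup.mem_center_iff.1 z.2 ⟨x, h ▸ Subgroup.mem_top x⟩)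
        exact hG ⟨⟨fun x y => cz_comm hc hz1 (mem_cz.2 (hall x)) (mem_cz.2 (hall y))⟩⟩
    · obtain ⟨g, hg⟩ := exists_conj_eq hc ht hG hs
      refine ⟨⟨⟨fun x y => Subtype.ext (cz_comm hc (ne_one hs) x.2 y.2)⟩⟩, fun c hcs => ?_⟩
      have : g⁻¹ * c * g ∈ cz t := mem_cz.2 (by
        have h := mem_cz.1 hcs
        rw [← hg] at h
        calc g⁻¹ * c * g * t = g⁻¹ * (c * (g * t * g⁻¹)) * g := by group
          _ = g⁻¹ * ((g * t * g⁻¹) * c) * g := by rw [h.eq]
          _ = _ := by group)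
      have h := involutions_of_cz hG hc ht _ this
      rw [pow_two]
      calc c * c = g * (g⁻¹ * c * g * (g⁻¹ * c * g)) * g⁻¹ := by group
        _ = 1 := by rw [h, mul_one, mul_inv_cancel]
  obtain ⟨F, hF, hFin, hFc, e⟩ := CfsgLib.Involution.RecognisePSL2.nonempty_mulEquiv hHyp
  obtain ⟨k, hk⟩ := T.2.exists_card_eq
  refine ⟨F, hF, hFin, k, ?_, by rw [hFc, hk], e⟩
  have := CfsgLib.Involution.ElemCentralizer.four_le hHyp
  rw [hk] at this
  exact (Nat.pow_le_pow_iff_right (by norm_num : 1 < 2)).1 this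

omit hG hc

/-- In `SL₂` of characteristic two the centralisers of non-identity elements are commutative. -/
theorem ca_sl {F : Type*} [Field F] [CharP F 2] : CA (Matrix.SpecialLinearGroup (Fin 2) F) := by
  intro a b c _ hb _ hab hbc
  obtain ⟨B, hBdet⟩ := b
  have e1 : a.1 * B = B * a.1 := congrArg Subtype.val hab.eq
  have e2 : c.1 * B = B * c.1 := congrArg Subtype.val hbc.eq.symm
  have key : ∀ X : Matrix (Fin 2) (Fin 2) F, X * B = B * X → ∃ y : F,
      X 0 1 = y * B 0 1 ∧ X 1 0 = y * B 1 0 ∧ X 0 0 - X 1 1 = y * (B 0 0 - B 1 1) := by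
    intro X h
    have h00 := congrFun (congrFun h 0) 0
    have h01 := congrFun (congrFun h 0) 1
    have h10 := congrFun (congrFun h 1) 0
    simp only [Matrix.mul_apply, Fin.sum_univ_two] at h00 h01 h10
    by_cases hb01 : B 0 1 = 0
    · by_cases hb10 : B 1 0 = 0
      · have hd : B 0 0 - B 1 1 ≠ 0 := by
          intro h0
          apply hb
          have h11 : B 1 1 = B 0 0 := (sub_eq_zero.1 h0).symm
          have hdet := hBdet
          rw [Matrix.det_fin_two, hb01, hb10, h11] at hdet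
          have hone : B 0 0 = 1 := by
            have h2 : (2 : F) = 0 := CharTwo.two_eq_zero
            exact sub_eq_zero.1 (mul_self_eq_zero.1 (by linear_combination hdet + (1 - B 0 0) * h2))
          apply Subtype.ext
          ext i j
          fin_cases i <;> fin_cases j <;> simp [hb01, hb10, h11, hone]
        refine ⟨(X 0 0 - X 1 1) / (B 0 0 - B 1 1), ?_, ?_, (div_mul_cancel₀ _ hd).symm⟩
        · rw [hb01, mul_zero]
          exact (mul_eq_zero.1 (show X 0 1 * (B 0 0 - B 1 1) = 0 by linear_combination -h01 + (X 0 0 - X 1 1) * hb01)).resolve_right hd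
        · rw [hb10, mul_zero]
          exact (mul_eq_zero.1 (show X 1 0 * (B 0 0 - B 1 1) = 0 by linear_combination h10 + (X 0 0 - X 1 1) * hb10)).resolve_right hd
      · refine ⟨X 1 0 / B 1 0, ?_, (div_mul_cancel₀ _ hb10).symm, ?_⟩
        · rw [div_mul_eq_mul_div, eq_div_iff hb10]; linear_combination h00
        · rw [div_mul_eq_mul_div, eq_div_iff hb10]; linear_combination -h10
    · refine ⟨X 0 1 / B 0 1, (div_mul_cancel₀ _ hb01).symm, ?_, ?_⟩
      · rw [div_mul_eq_mul_div, eq_div_iff hb01]; linear_combination -h00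
      · rw [div_mul_eq_mul_div, eq_div_iff hb01]; linear_combination h01
  obtain ⟨y, y1, y2, y3⟩ := key a.1 e1
  obtain ⟨z, z1, z2, z3⟩ := key c.1 e2
  refine Subtype.ext ?_
  show a.1 * c.1 = c.1 * a.1
  ext i j
  fin_cases i <;> fin_cases j <;> simp [Matrix.mul_apply, Fin.sum_univ_two]
  · rw [y1, y2, z1, z2]; ring
  · rw [y1, z1]; linear_combination (z * B 0 1) * y3 - (y * B 0 1) * z3
  · rw [y2, z2]; linear_combination -(z * B 1 0) * y3 + (y * B 1 0) * z3
  · rw [y1, y2, z1, z2]; ring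

theorem ca_of_psl {G' : Type*} [Group G'] {F : Type} [Field F] [Fintype F] {f : ℕ} (hF : Fintype.card F = 2 ^ f)
    (e : G' ≃* Matrix.ProjectiveSpecialLinearGroup (Fin 2) F) : CA G' := by
  haveI : Fact (Nat.Prime 2) := ⟨Nat.prime_two⟩
  haveI : CharP F 2 := charP_of_card_eq_prime_pow (f := f) hF
  obtain ⟨e'⟩ := CfsgLib.Perm.SharpThreeOdd.psl_equiv_sl (F := F)
  let ε := e.trans e'
  intro a b c ha hb hc' hab hbc
  have := ca_sl (ε a) (ε b) (ε c) (by simpa using ha) (by simpa using hb) (by simpa using hc')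
    (hab.map ε.toMonoidHom) (hbc.map ε.toMonoidHom)
  simpa using this.map ε.symm.toMonoidHom

end CfsgLib.Recognition.CAGroup
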